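import Mathlib

/-!
# At most one composite element order: arithmetic

`OneComposite P` says that the set `P` of natural numbers holds at most one composite number.
-/

set_option autoImplicit false

namespace Cfsg.Agent.AtMostOneComposite

/-- At most one composite number satisfies `P`. -/
def OneComposite (P : ℕ → Prop) : Prop :=
  ∀ a b : ℕ, P a → P b → 1 < a → ¬ a.Prime → 1 < b → ¬ b.Prime → a = b

theorem not_prime_three_mul {k : ℕ} (hk : 1 < k) : ¬ (3 * k).Prime :=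
  Nat.not_prime_mul (by norm_num) (by omega)

theorem not_prime_two_mul {k : ℕ} (hk : 1 < k) : ¬ (2 * k).Prime :=
  Nat.not_prime_mul (by norm_num) (by omega)

/-- The spectrum of `PSL₂(2ⁿ)`. -/
theorem even_char_cases {n : ℕ} (hn : 3 ≤ n)
    (h : OneComposite fun a => a ∣ 2 ^ n - 1 ∨ a ∣ 2 ^ n + 1) :
    n = 4 ∨ ((2 ^ n - 1).Prime ∧ ∃ r, r.Prime ∧ 2 ^ n + 1 = 3 * r) := by
  have h8 : 8 ≤ 2 ^ n := le_trans (by norm_num) (Nat.pow_le_pow_right (by norm_num) hn)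
  rcases Nat.even_or_odd n with ⟨m, rfl⟩ | ⟨m, hm⟩
  · by_cases hm : m = 2
    · exact Or.inl (by omega)
    exfalso
    set x := 2 ^ m with hx
    have hx8 : 8 ≤ x := le_trans (by norm_num) (Nat.pow_le_pow_right (by norm_num) (by omega : 3 ≤ m))
    have h3 : ¬ 3 ∣ x := fun hd => absurd (Nat.prime_three.dvd_of_dvd_pow hd) (by norm_num)
    have hprod : 2 ^ (m + m) - 1 = (x + 1) * (x - 1) := by
      rw [pow_add, ← hx]
      have := Nat.sq_sub_sq x 1
      rw [one_pow, sq] at this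
      exact this
    have hbig : ¬ (2 ^ (m + m) - 1).Prime := hprod ▸ Nat.not_prime_mul (by omega) (by omega)
    -- one of the factors is a proper composite divisor
    have key : ∀ y z : ℕ, 1 < y → 1 < z → 2 ^ (m + m) - 1 = y * z → 3 ∣ y → 3 < y → False := by
      intro y z hy hz he hd hy3
      obtain ⟨k, rfl⟩ := hd
      have hk : 1 < k := by omega
      have he' := h (3 * k) (2 ^ (m + m) - 1) (Or.inl ⟨z, he⟩) (Or.inl dvd_rfl) (by omega)
        (not_prime_three_mul hk) (by omega) hbig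
      rw [he] at he'
      have : 3 * k * 1 < 3 * k * z := Nat.mul_lt_mul_of_pos_left hz (by omega)
      omega
    by_cases hp : 3 ∣ x + 1
    · exact key _ _ (by omega) (by omega) hprod hp (by omega)
    · exact key _ _ (by omega) (by omega) (hprod.trans (mul_comm _ _)) (by omega) (by omega)
  · obtain rfl : n = 2 * m + 1 := hm
    have h3 : 2 ^ (2 * m + 1) % 3 = 2 := by
      rw [pow_succ, pow_mul, Nat.mul_mod, Nat.pow_mod]
      norm_num
    obtain ⟨r, hr⟩ : (3 : ℕ) ∣ (2 : ℕ) ^ (2 * m + 1) + 1 := by omega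
    have hr1 : 1 < r := by omega
    have hc : ¬ (2 ^ (2 * m + 1) + 1).Prime := hr ▸ not_prime_three_mul hr1
    refine Or.inr ⟨by_contra fun hp => ?_, r, by_contra fun hp => ?_, hr⟩
    · have := h _ _ (Or.inl dvd_rfl) (Or.inr dvd_rfl) (by omega) hp (by omega) hc
      omega
    · have := h r _ (Or.inr ⟨3, by rw [hr, mul_comm]⟩) (Or.inr dvd_rfl) hr1 hp (by omega) hc
      omega

/-- The spectrum of `PSL₂(q)` for `q ≡ ±3 (mod 8)`. -/
theorem three_five_cases {q : ℕ} (h5 : 5 < q) (h8 : q % 8 = 3 ∨ q % 8 = 5)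
    (h : OneComposite fun a => a ∣ (q - 1) / 2 ∨ a ∣ (q + 1) / 2) :
    q = 11 ∨ q = 13 ∨
      (3 ∣ q ∧ (q % 8 = 5 ∨ ∃ r s, r.Prime ∧ s.Prime ∧ q - 1 = 2 * r ∧ q + 1 = 4 * s)) := by
  -- the even half is twice an odd prime, the odd half a prime
  have key : ∀ r s : ℕ, 3 ≤ s → 1 < r → r ≠ 2 * s →
      ((q - 1) / 2 = r ∧ (q + 1) / 2 = 2 * s ∨ (q - 1) / 2 = 2 * s ∧ (q + 1) / 2 = r) →
      r.Prime ∧ s.Prime := by
    intro r s hs hr hne he
    have hP : ∀ a, a ∣ r ∨ a ∣ 2 * s → a ∣ (q - 1) / 2 ∨ a ∣ (q + 1) / 2 := by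
      intro a ha
      rcases he with ⟨e1, e2⟩ | ⟨e1, e2⟩ <;> rw [e1, e2] <;> tauto
    have hc := not_prime_two_mul (by omega : 1 < s)
    refine ⟨by_contra fun hp => ?_, by_contra fun hp => ?_⟩
    · exact hne (h _ _ (hP _ (Or.inl dvd_rfl)) (hP _ (Or.inr dvd_rfl)) hr hp (by omega) hc)
    · have := h s _ (hP _ (Or.inr (Dvd.intro_left 2 rfl))) (hP _ (Or.inr dvd_rfl)) (by omega) hp
        (by omega) hc
      omega
  rcases h8 with h8 | h8
  · obtain ⟨hr, hs⟩ := key ((q - 1) / 2) ((q + 1) / 4) (by omega) (by omega) (by omega)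
      (Or.inl ⟨rfl, by omega⟩)
    by_cases h0 : 3 ∣ q
    · exact Or.inr (Or.inr ⟨h0, Or.inr ⟨_, _, hr, hs, by omega, by omega⟩⟩)
    by_cases h1 : 3 ∣ (q - 1) / 2
    · have := (Nat.prime_dvd_prime_iff_eq Nat.prime_three hr).1 h1
      omega
    · have h24 : q % 24 = 11 ∨ q % 24 = 19 := by omega
      have := (Nat.prime_dvd_prime_iff_eq Nat.prime_three hs).1
        (by rcases h24 with h24 | h24 <;> omega)
      omega
  · obtain ⟨hr, hs⟩ := key ((q + 1) / 2) ((q - 1) / 4) (by omega) (by omega) (by omega)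
      (Or.inr ⟨by omega, rfl⟩)
    by_cases h0 : 3 ∣ q
    · exact Or.inr (Or.inr ⟨h0, Or.inl h8⟩)
    by_cases h1 : 3 ∣ (q + 1) / 2
    · have := (Nat.prime_dvd_prime_iff_eq Nat.prime_three hr).1 h1
      omega
    · have h24 : q % 24 = 5 ∨ q % 24 = 13 := by omega
      have := (Nat.prime_dvd_prime_iff_eq Nat.prime_three hs).1
        (by rcases h24 with h24 | h24 <;> omega)
      omega

/-- Powers of three are `1` or `3` modulo eight. -/
theorem three_pow_mod_eight (n : ℕ) : 3 ^ n % 8 = 1 ∨ 3 ^ n % 8 = 3 := by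
  induction n with
  | zero => simp
  | succ b ih => rw [pow_succ, Nat.mul_mod]; rcases ih with h | h <;> simp [h]

/-- A Fermat or Mersenne prime `q ≥ 17` gives two composite divisors of `(q ± 1) / 2`. -/
theorem fermat_mersenne_cases {q k : ℕ} (hq : q.Prime) (h5 : 5 ≤ q)
    (hk : q = 2 ^ k + 1 ∨ q + 1 = 2 ^ k)
    (h : OneComposite fun a => a ∣ (q - 1) / 2 ∨ a ∣ (q + 1) / 2) : q = 5 ∨ q = 7 := by
  by_cases hk3 : k ≤ 3
  · interval_cases k <;> rcases hk with hk | hk <;> norm_num at hk <;> first | omega | skip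
    all_goals first | omega | (subst hk; norm_num at hq)
  exfalso
  obtain ⟨j, rfl⟩ : ∃ j, k = j + 4 := ⟨k - 4, by omega⟩
  have h16 : 2 ^ (j + 4) = 16 * 2 ^ j := by rw [pow_add]; ring
  have h4 : ∀ a, a ∣ 8 → a ∣ (q - 1) / 2 ∨ a ∣ (q + 1) / 2 := fun a ha => by
    rcases hk with hk | hk
    · exact Or.inl (ha.trans ⟨2 ^ j, by omega⟩)
    · exact Or.inr (ha.trans ⟨2 ^ j, by omega⟩)
  have := h 4 8 (h4 4 (by norm_num)) (h4 8 dvd_rfl) (by norm_num) (by norm_num) (by norm_num)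
    (by norm_num)
  omega

/-- The spectrum of a Suzuki group. -/
theorem suzuki_eq_one {m : ℕ} (hm : 1 ≤ m)
    (h : OneComposite fun a => a = 4 ∨ a = 2 ^ (2 * m + 1) + 2 ^ (m + 1) + 1 ∨
      a = 2 ^ (2 * m + 1) - 2 ^ (m + 1) + 1)
    (h5 : 5 ∣ 2 ^ (2 * m + 1) + 2 ^ (m + 1) + 1 ∨ 5 ∣ 2 ^ (2 * m + 1) - 2 ^ (m + 1) + 1) :
    m = 1 := by
  obtain ⟨j, rfl⟩ := Nat.exists_eq_add_of_le hm
  have hj : 1 ≤ 2 ^ j := Nat.one_le_two_pow
  have h8 : 2 ^ (2 * (1 + j) + 1) = 2 ^ (1 + j + 1) * (2 * 2 ^ j) := by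
    rw [← pow_succ', ← pow_add]; congr 1; omega
  have h4 : 2 ^ (1 + j + 1) = 4 * 2 ^ j := by ring
  rw [h4] at h8
  rw [h4, h8] at h h5
  have hmul : 2 ^ j ≤ 2 ^ j * 2 ^ j := Nat.le_mul_of_pos_left _ hj
  have hsq : 4 * 2 ^ j * (2 * 2 ^ j) = 8 * (2 ^ j * 2 ^ j) := by ring
  rw [hsq] at h h5
  have odd : ∀ a : ℕ, (a = 8 * (2 ^ j * 2 ^ j) + 4 * 2 ^ j + 1 ∨
      a = 8 * (2 ^ j * 2 ^ j) - 4 * 2 ^ j + 1) → 5 ∣ a → a = 5 := by
    intro a ha hd
    by_cases hp : a.Prime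
    · exact ((Nat.prime_dvd_prime_iff_eq (by norm_num) hp).1 hd).symm
    · have := h a 4 (Or.inr ha) (Or.inl rfl) (by omega) hp (by norm_num) (by norm_num)
      omega
  rcases h5 with h5 | h5
  · have := odd _ (Or.inl rfl) h5
    omega
  · have := odd _ (Or.inr rfl) h5
    by_contra hne
    have h2 : 2 ≤ 2 ^ j := le_trans (by norm_num) (Nat.pow_le_pow_right (by norm_num) (by omega : 1 ≤ j))
    have := Nat.mul_le_mul_right (2 ^ j) h2
    omega

end Cfsg.Agent.AtMostOneComposite
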