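import Cfsg.Agent.Lib.CIT.ConsEPPO
import Cfsg.Agent.Lib.AtMostOneComposite.Arith
import Cfsg.Agent.Lib.Suzuki.Group

/-!
# Simple groups with at most one composite element order

Either some element has order `2r`, `r` an odd prime, and the case of the theorem on three element
orders applies, or the group is a CIT group.
-/

set_option autoImplicit false
set_option linter.style.haveILetI false

namespace Cfsg.Agent.AtMostOneComposite

open Matrix

universe u

/-- No prime divides three distinct element orders. -/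
def NoThreeOrders (G : Type*) [Group G] : Prop :=
  ∀ p : ℕ, p.Prime → ∀ a b c : G, orderOf a ≠ orderOf b → orderOf b ≠ orderOf c →
    orderOf a ≠ orderOf c → ¬ (p ∣ orderOf a ∧ p ∣ orderOf b ∧ p ∣ orderOf c)

/-- The case of an element of order `2r` (`r` odd) in the theorem on three element orders. -/
def TwoRCase : Prop :=
  ∀ (H : Type u) [Group H] [Finite H], ¬ Group.IsSolvable H → NoThreeOrders H →
    (∃ (g : H) (r : ℕ), r.Prime ∧ r ≠ 2 ∧ orderOf g = 2 * r) →
    ∃ (F : Type) (_ : Field F) (_ : Fintype F),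
      5 < Fintype.card F ∧ (Fintype.card F % 8 = 3 ∨ Fintype.card F % 8 = 5) ∧
      Nonempty (H ≃* ProjectiveSpecialLinearGroup (Fin 2) F)

variable {G : Type u} [Group G]

/-- At most one composite element order. -/
def OrdersOneComposite (G : Type*) [Group G] : Prop :=
  OneComposite (· ∈ Set.range (orderOf : G → ℕ))

theorem ordersOneComposite_of_subsingleton
    (h1 : {n : ℕ | n ∈ Set.range (orderOf : G → ℕ) ∧ 1 < n ∧ ¬ n.Prime}.Subsingleton) :
    OrdersOneComposite G := fun _ _ ha hb a1 ap b1 bp => h1 ⟨ha, a1, ap⟩ ⟨hb, b1, bp⟩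

theorem noThreeOrders [Finite G] (h : OrdersOneComposite G) : NoThreeOrders G := by
  rintro p hp a b c hab hbc hac ⟨ha, hb, hc⟩
  have comp : ∀ x : G, p ∣ orderOf x → orderOf x ≠ p → 1 < orderOf x ∧ ¬ (orderOf x).Prime :=
    fun x hx hne => ⟨hp.one_lt.trans_le (Nat.le_of_dvd (orderOf_pos x) hx),
      fun hx' => hne ((Nat.prime_dvd_prime_iff_eq hp hx').1 hx).symm⟩
  have two : ∀ x y : G, p ∣ orderOf x → p ∣ orderOf y → orderOf x ≠ p → orderOf y ≠ p →
      orderOf x = orderOf y := fun x y hx hy ex ey =>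
    h _ _ ⟨x, rfl⟩ ⟨y, rfl⟩ (comp x hx ex).1 (comp x hx ex).2 (comp y hy ey).1 (comp y hy ey).2
  by_cases ea : orderOf a = p
  · exact hbc (two b c hb hc (fun e => hab (ea.trans e.symm)) fun e => hac (ea.trans e.symm))
  by_cases eb : orderOf b = p
  · exact hac (two a c ha hc ea fun e => hbc (eb.trans e.symm))
  · exact hab (two a b ha hb ea eb)

theorem isCIT_of_no_two_r [Finite G]
    (h : ¬ ∃ (g : G) (r : ℕ), r.Prime ∧ r ≠ 2 ∧ orderOf g = 2 * r) : CIT.IsCIT G := by
  intro t ht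
  haveI : Fact (Nat.Prime 2) := ⟨Nat.prime_two⟩
  rw [IsPGroup.iff_orderOf]
  rintro ⟨g, hg⟩
  refine ⟨_, (Subgroup.orderOf_mk g hg).trans <|
    Nat.eq_prime_pow_of_unique_prime_dvd (orderOf_pos g).ne' fun {r} hr hd => ?_⟩
  by_contra hne
  haveI : Fact r.Prime := ⟨hr⟩
  have hx : orderOf (g ^ (orderOf g / r)) = r := orderOf_pow_orderOf_div (orderOf_pos g).ne' hd
  have hc : Commute t (g ^ (orderOf g / r)) :=
    (Commute.pow_right (Subgroup.mem_centralizer_singleton_iff.1 hg).symm _)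
  refine h ⟨t * g ^ (orderOf g / r), r, hr, hne, ?_⟩
  rw [hc.orderOf_mul_eq_mul_orderOf_of_coprime, ht, hx]
  rw [ht, hx]
  exact (Nat.coprime_primes Nat.prime_two hr).2 (Ne.symm hne)

theorem transport (h : OrdersOneComposite G) {H : Type*} [Group H] (e : G ≃* H) :
    OrdersOneComposite H := by
  have hr : ∀ a, a ∈ Set.range (orderOf : H → ℕ) → a ∈ Set.range (orderOf : G → ℕ) := by
    rintro _ ⟨x, rfl⟩
    exact ⟨e.symm x, e.symm.orderOf_eq x⟩
  exact fun a b ha hb => h a b (hr a ha) (hr b hb)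

theorem psl_tori (h : OrdersOneComposite G) {F : Type} [Field F] [Fintype F]
    (e : G ≃* ProjectiveSpecialLinearGroup (Fin 2) F) (h4 : 4 ≤ Fintype.card F) :
    OneComposite fun a => a ∣ (Fintype.card F - 1) / Nat.gcd 2 (Fintype.card F - 1) ∨
      a ∣ (Fintype.card F + 1) / Nat.gcd 2 (Fintype.card F - 1) := by
  obtain ⟨p, hp⟩ := CharP.exists F
  haveI := hp
  haveI : Fact p.Prime := ⟨CharP.char_is_prime F p⟩
  have hr := S2475.result (F := F) p h4
  intro a b ha hb
  exact transport h e a b (hr ▸ Or.inr ha) (hr ▸ Or.inr hb)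

/-- The conclusion of the theorem. -/
def OneCompositeList (G : Type*) [Group G] : Prop :=
  (∃ (F : Type) (_ : Field F) (_ : Fintype F), (Fintype.card F = 5 ∨ Fintype.card F = 7 ∨ Fintype.card F = 8 ∨ Fintype.card F = 9 ∨
      Fintype.card F = 11 ∨ Fintype.card F = 13 ∨ Fintype.card F = 16) ∧ Nonempty (G ≃* Matrix.ProjectiveSpecialLinearGroup (Fin 2) F)) ∨
  (∃ (F : Type) (_ : Field F) (_ : Fintype F), Fintype.card F = 4 ∧ Nonempty (G ≃* Matrix.ProjectiveSpecialLinearGroup (Fin 3) F)) ∨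
  (∃ (F : Type) (_ : Field F) (_ : Fintype F), Fintype.card F = 8 ∧ Nonempty (G ≃* ↥(Cfsg.Lie.Sz F 4))) ∨
  (∃ (F : Type) (_ : Field F) (_ : Fintype F), ∃ n r s : ℕ, r.Prime ∧ s.Prime ∧ 3 ^ n - 1 = 2 * r ∧ 3 ^ n + 1 = 4 * s ∧
      Fintype.card F = 3 ^ n ∧ Nonempty (G ≃* Matrix.ProjectiveSpecialLinearGroup (Fin 2) F)) ∨
  (∃ (F : Type) (_ : Field F) (_ : Fintype F), ∃ n r : ℕ, (2 ^ n - 1).Prime ∧ r.Prime ∧ 2 ^ n + 1 = 3 * r ∧
      Fintype.card F = 2 ^ n ∧ Nonempty (G ≃* Matrix.ProjectiveSpecialLinearGroup (Fin 2) F))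

theorem list_of_two_r {F : Type} [Field F] [Fintype F] (h : OrdersOneComposite G)
    (e : G ≃* ProjectiveSpecialLinearGroup (Fin 2) F) (h5 : 5 < Fintype.card F)
    (h8 : Fintype.card F % 8 = 3 ∨ Fintype.card F % 8 = 5) : OneCompositeList G := by
  have hg : Nat.gcd 2 (Fintype.card F - 1) = 2 := Nat.gcd_eq_left (by omega)
  have ht := psl_tori h e (by omega)
  rw [hg] at ht
  rcases three_five_cases h5 h8 ht with hF | hF | ⟨h3, hrest⟩
  · exact Or.inl ⟨F, inferInstance, inferInstance, by simp [hF], ⟨e⟩⟩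
  · exact Or.inl ⟨F, inferInstance, inferInstance, by simp [hF], ⟨e⟩⟩
  · obtain ⟨p, hp⟩ := CharP.exists F
    haveI := hp
    obtain ⟨n, hp', hn⟩ := FiniteField.card F p
    rw [hn] at h3
    obtain rfl := (Nat.prime_dvd_prime_iff_eq Nat.prime_three hp').1
      (Nat.prime_three.dvd_of_dvd_pow h3)
    rcases hrest with h85 | ⟨r, s, hr, hs, e1, e2⟩
    · rw [hn] at h85
      rcases three_pow_mod_eight n with h' | h' <;> omega
    · exact Or.inr (Or.inr (Or.inr (Or.inl ⟨F, inferInstance, inferInstance, n, r, s, hr, hs, hn ▸ e1, hn ▸ e2, hn, ⟨e⟩⟩)))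

theorem list_of_citList [Finite G] (h : OrdersOneComposite G) (hl : CIT.CITList G) :
    OneCompositeList G := by
  rcases hl with ⟨F, iF, iT, hF, ⟨e⟩⟩ | hL | hS
  · have small : (Fintype.card F = 5 ∨ Fintype.card F = 7 ∨ Fintype.card F = 8 ∨
        Fintype.card F = 9 ∨ Fintype.card F = 11 ∨ Fintype.card F = 13 ∨ Fintype.card F = 16) →
        OneCompositeList G := fun hm => Or.inl ⟨F, iF, iT, hm, ⟨e⟩⟩
    rcases hF with hF | ⟨n, hn, hF⟩ | ⟨h5, hq, k, hk⟩
    · exact small (by simp [hF])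
    · by_cases h2 : n = 2
      · subst h2
        haveI : Fact (Nat.Prime 5) := ⟨Nat.prime_five⟩
        obtain ⟨i⟩ := S0252.result (F := F) (by rw [hF]; norm_num)
        obtain ⟨j⟩ := S0253.result (F := ZMod 5) (ZMod.card 5)
        exact Or.inl ⟨ZMod 5, inferInstance, inferInstance, Or.inl (ZMod.card 5),
          ⟨e.trans (i.trans j.symm)⟩⟩
      have h8 : 8 ≤ 2 ^ n := le_trans (by norm_num) (Nat.pow_le_pow_right (by norm_num) (by omega : 3 ≤ n))
      have ht := psl_tori h e (by omega)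
      rw [hF, CIT.gcd_two_pow_sub_one (by omega), Nat.div_one, Nat.div_one] at ht
      rcases even_char_cases (by omega) ht with rfl | ⟨hp, r, hr, he⟩
      · exact small (by simp [hF])
      · exact Or.inr (Or.inr (Or.inr (Or.inr ⟨F, iF, iT, n, r, hp, hr, he, hF, ⟨e⟩⟩)))
    · have ht := psl_tori h e (by omega)
      rw [CIT.gcd_two_of_odd_prime hq h5] at ht
      rcases fermat_mersenne_cases hq h5 hk ht with h' | h' <;> exact small (by simp [h'])
  · exact Or.inr (Or.inl hL)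
  · obtain ⟨F, iF, iT, m, hm, hF, ⟨e⟩⟩ := hS
    haveI := Cfsg.Agent.Suzuki.charTwo hF
    obtain ⟨ε⟩ := Cfsg.Agent.Suzuki.lieEquiv hm hF
    have hs := transport h (e.trans ε.symm)
    have hU := S0333.result (F := F) hm hF
    haveI : Fact (Nat.Prime 2) := ⟨Nat.prime_two⟩
    have h4 : orderOf (Suzuki.tr hF 1 0 : Cfsg.Sz F m) = 2 ^ (1 + 1) := by
      refine orderOf_eq_prime_pow (fun he => ?_) ?_
      · rw [pow_one, sq, Suzuki.tr_mul, ← Suzuki.tr_zero hF] at he
        have := (Suzuki.tr_injective hF he).2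
        simp at this
      · rw [show (2 : ℕ) ^ (1 + 1) = 2 * 2 from rfl, pow_mul, sq, sq, Suzuki.tr_mul, Suzuki.tr_mul,
          ← Suzuki.tr_zero hF]
        congr 1 <;> simp [CharTwo.add_self_eq_zero]
    have hin : ∀ a, (a = 4 ∨ a = 2 ^ (2 * m + 1) + 2 ^ (m + 1) + 1 ∨
        a = 2 ^ (2 * m + 1) - 2 ^ (m + 1) + 1) → a ∈ Set.range (orderOf : Cfsg.Sz F m → ℕ) := by
      rintro a (rfl | ha)
      · exact ⟨_, h4⟩
      · obtain ⟨U, hc, hcard, -⟩ := hU a ha
        obtain ⟨g, hg⟩ := hc.exists_generator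
        exact ⟨g, by rw [Subgroup.orderOf_coe, orderOf_eq_card_of_forall_mem_zpowers hg, hcard]⟩
    obtain rfl := suzuki_eq_one hm (fun a b ha hb => hs a b (hin a ha) (hin b hb))
      (CIT.five_dvd_suzuki m)
    exact Or.inr (Or.inr (Or.inl ⟨F, iF, iT, by rw [hF]; norm_num, ⟨e⟩⟩))

/-- The classification, from the classification of CIT groups and the case of order `2r`. -/
theorem classification [Finite G] [IsSimpleGroup G] (hT : CIT.CITTheorem.{u}) (h2r : TwoRCase.{u})
    (h1 : {n : ℕ | n ∈ Set.range (orderOf : G → ℕ) ∧ 1 < n ∧ ¬ n.Prime}.Subsingleton) :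
    (Nat.card G).Prime ∨ OneCompositeList G := by
  have h := ordersOneComposite_of_subsingleton h1
  by_cases hG : IsMulCommutative G
  · letI : CommGroup G := { ‹Group G› with mul_comm := fun a b => hG.is_comm.comm a b }
    exact Or.inl IsSimpleGroup.prime_card
  refine Or.inr ?_
  by_cases h2 : ∃ (g : G) (r : ℕ), r.Prime ∧ r ≠ 2 ∧ orderOf g = 2 * r
  · have hns : ¬ Group.IsSolvable G := fun hs =>
      hG ⟨⟨IsSimpleGroup.comm_iff_isSolvable.2 hs⟩⟩
    obtain ⟨F, iF, iT, h5, h8, ⟨e⟩⟩ := h2r G hns (noThreeOrders h) h2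
    exact list_of_two_r h e h5 h8
  · exact list_of_citList h (hT G hG (isCIT_of_no_two_r h2))

end Cfsg.Agent.AtMostOneComposite
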